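import Groth.Agent.GorLib.RegSeq
import Groth.Agent.CanonModLib.GeneralApps
import Groth.Agent.CatLib.CM
import Groth.Prelude.Def_Wider

/-!
# The top Čech module of a system of parameters of a Gorenstein local ring
-/

set_option autoImplicit false
set_option maxHeartbeats 1000000

universe u

open IsLocalRing

namespace GorCechLib

noncomputable section

variable {R : Type u} [CommRing R] [LocCoh.IsGorensteinLocalRing R] {d : ℕ}
  (hd : ringKrullDim R = d) (x : Fin d → R) (hx : (Ideal.span (Set.range x)).radical = maximalIdeal R)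

/-- The ideal of `n`-th powers. -/
def J (n : ℕ) : Ideal R := Ideal.span (Set.range fun i => x i ^ n)

/-- The product of the parameters. -/
abbrev t : R := ∏ i, x i

/-- The numerators with a smaller denominator. -/
def P : Submodule R (Localization.Away (t x)) :=
  Submodule.span R {y : Localization.Away (∏ i, x i) | ∃ (i : Fin d) (n : ℕ), y = algebraMap R (Localization.Away (∏ i, x i)) (x i ^ n) * IsLocalization.Away.invSelf (∏ i, x i) ^ n}

/-- The top Čech module. -/
abbrev E : Type u := Localization.Away (t x) ⧸ P x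

/-- `r ↦ r / tⁿ`. -/
def π (n : ℕ) : R →ₗ[R] E x :=
  LinearMap.toSpanSingleton R (E x) (Submodule.Quotient.mk ((IsLocalization.Away.invSelf (t x)) ^ n))

theorem π_apply (n : ℕ) (r : R) :
    π x n r = Submodule.Quotient.mk (algebraMap R (Localization.Away (t x)) r * (IsLocalization.Away.invSelf (t x)) ^ n) := by
  show r • (Submodule.Quotient.mk _ : E x) = _
  rw [← Submodule.Quotient.mk_smul, Algebra.smul_def]

theorem mul_pow_invSelf (n : ℕ) :
    algebraMap R (Localization.Away (t x)) (t x ^ n) * (IsLocalization.Away.invSelf (t x)) ^ n = 1 := by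
  rw [map_pow, ← mul_pow, IsLocalization.Away.mul_invSelf, one_pow]

theorem π_add (n m : ℕ) (r : R) : π x (n + m) (r * t x ^ m) = π x n r := by
  rw [π_apply, π_apply, map_mul, pow_add]
  congr 1
  linear_combination algebraMap R (Localization.Away (t x)) r * IsLocalization.Away.invSelf (t x) ^ n *
    mul_pow_invSelf x m

theorem π_surj (z : E x) : ∃ (n : ℕ) (r : R), π x n r = z := by
  obtain ⟨z, rfl⟩ := Submodule.Quotient.mk_surjective _ z
  obtain ⟨n, r, h⟩ := IsLocalization.Away.surj (t x) z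
  refine ⟨n, r, ?_⟩
  rw [π_apply, ← h, mul_assoc, ← map_pow, mul_pow_invSelf, mul_one]

theorem range_π_mono {n m : ℕ} (h : n ≤ m) : LinearMap.range (π x n) ≤ LinearMap.range (π x m) := by
  rintro _ ⟨r, rfl⟩
  exact ⟨r * t x ^ (m - n), by rw [← π_add x n (m - n) r, Nat.add_sub_cancel' h]⟩

theorem mem_J (i : Fin d) (n : ℕ) : x i ^ n ∈ J x n := Ideal.subset_span ⟨i, rfl⟩

theorem J_le_pow (n : ℕ) : J x n ≤ Ideal.span (Set.range x) ^ n :=
  Ideal.span_le.2 (Set.range_subset_iff.2 fun i => Ideal.pow_mem_pow (Ideal.subset_span (Set.mem_range_self i)) n)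

include hx in
theorem mem_maximalIdeal (i : Fin d) : x i ∈ maximalIdeal R :=
  hx ▸ Ideal.le_radical (Ideal.subset_span ⟨i, rfl⟩)

include hx in
theorem J_le_maximalIdeal {n : ℕ} (hn : 1 ≤ n) : J x n ≤ maximalIdeal R :=
  Ideal.span_le.2 fun _ ⟨i, hi⟩ => hi ▸ Ideal.pow_mem_of_mem _ (mem_maximalIdeal x hx i) n hn

include hx in
theorem exists_pow_le (n : ℕ) : ∃ L : ℕ, maximalIdeal R ^ L ≤ J x n := by
  refine Ideal.exists_pow_le_of_le_radical_of_fg_radical ?_ (IsNoetherian.noetherian _)
  rw [← hx, Ideal.radical_le_radical_iff, Ideal.span_le]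
  exact fun _ ⟨i, hi⟩ => ⟨n, hi ▸ mem_J x i n⟩

include hd hx in
/-- Powers of a system of parameters, each regular modulo the others. -/
theorem mem_of_mul_mem (e : Fin d → ℕ) (he : ∀ i, 1 ≤ e i) (i : Fin d) (z : R)
    (h : x i * z ∈ Ideal.span ((fun j => x j ^ e j) '' {j | j ≠ i})) :
    z ∈ Ideal.span ((fun j => x j ^ e j) '' {j | j ≠ i}) := by
  classical
  let L : List R := ((Finset.univ.erase i).toList.map fun j => x j ^ e j)
  have hL : Ideal.ofList L = Ideal.span ((fun j => x j ^ e j) '' {j | j ≠ i}) := by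
    unfold Ideal.ofList
    congr 1
    ext z
    simp [L]
  let rs : List R := L ++ [x i]
  have hlen : rs.length = d := by
    simp only [rs, L, List.length_append, List.length_map, Finset.length_toList, List.length_singleton,
      Finset.card_erase_of_mem (Finset.mem_univ i), Finset.card_univ, Fintype.card_fin]
    exact Nat.sub_add_cancel i.pos
  have hm : ∀ r ∈ rs, r ∈ maximalIdeal R := by
    intro r hr
    rcases List.mem_append.1 hr with hr | hr
    · obtain ⟨j, -, rfl⟩ := List.mem_map.1 hr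
      exact Ideal.pow_mem_of_mem _ (mem_maximalIdeal x hx j) _ (he j)
    · rw [List.mem_singleton.1 hr]
      exact mem_maximalIdeal x hx i
  have hreg : RingTheory.Sequence.IsRegular R rs := by
    refine CommAlgDim.isRegular_of_dim_aux _ R rs rfl GorLib.isCM_of_gorenstein hm ?_
    have h0 : ringKrullDim (R ⧸ Ideal.ofList rs) ≤ 0 := by
      refine (CanonModLib.dim_quotient_le_card (Ideal.ofList rs) (Ideal.span_le.2 hm) ∅ (by simp) ?_).trans (by simp)
      rw [← hx, Finset.coe_empty, Ideal.span_empty, sup_bot_eq, Ideal.radical_le_radical_iff, Ideal.span_le]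
      rintro _ ⟨j, rfl⟩
      by_cases hj : j = i
      · exact Ideal.le_radical (Ideal.subset_span (by simp [rs, hj]))
      · exact ⟨e j, Ideal.subset_span (by simp only [rs, Set.mem_setOf_eq, List.mem_append, L]; left; exact List.mem_map.2 ⟨j, by simp [hj], rfl⟩)⟩
    refine (add_le_add h0 le_rfl).trans ?_
    rw [zero_add, hlen, hd]
  have h1 := hreg.regular_mod_prev L.length (by simp [rs])
  have e1 : rs.take L.length = L := List.take_left
  have e2 : rs[L.length]'(by simp [rs]) = x i := by simp [rs]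
  rw [e1, e2] at h1
  have h2 := isSMulRegular_quotient_iff_mem_of_smul_mem _ _ |>.1 h1 z
  rw [smul_eq_mul, smul_eq_mul, Ideal.mul_top, hL] at h2
  exact h2 h

include hd hx in
theorem mem_of_prod_mul_mem {n : ℕ} (hn : 1 ≤ n) (S : Finset (Fin d)) : ∀ r : R,
    r * ∏ i ∈ S, x i ∈ Ideal.span (Set.range fun j => x j ^ (if j ∈ S then n + 1 else n)) → r ∈ J x n := by
  classical
  induction S using Finset.induction_on with
  | empty => exact fun r h => by simpa [J] using h
  | @insert i S hi ih =>
    intro r h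
    let e : Fin d → ℕ := fun j => if j ∈ insert i S then n + 1 else n
    have hsplit : Ideal.span (Set.range fun j => x j ^ e j) =
        Ideal.span {x i ^ (n + 1)} ⊔ Ideal.span ((fun j => x j ^ e j) '' {j | j ≠ i}) := by
      rw [← Ideal.span_union]
      congr 1
      ext z
      constructor
      · rintro ⟨j, rfl⟩
        by_cases hj : j = i
        · exact Or.inl (by simp [e, hj])
        · exact Or.inr ⟨j, hj, rfl⟩
      · rintro (h | ⟨j, -, rfl⟩)
        · exact ⟨i, by simp [e, Set.mem_singleton_iff.1 h]⟩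
        · exact ⟨j, rfl⟩
    have h' : r * ∏ j ∈ insert i S, x j ∈ Ideal.span (Set.range fun j => x j ^ e j) := h
    rw [hsplit, Submodule.mem_sup] at h'
    obtain ⟨a, ha, b, hb, hab⟩ := h'
    obtain ⟨c, rfl⟩ := Ideal.mem_span_singleton'.1 ha
    rw [Finset.prod_insert hi] at hab
    have hz : x i * (r * (∏ j ∈ S, x j) - c * x i ^ n) = b := by linear_combination -hab
    have hmem := mem_of_mul_mem hd x hx e (fun j => by simp only [e]; split <;> omega) i _ (hz ▸ hb)
    refine ih r ?_
    have hle : Ideal.span ((fun j => x j ^ e j) '' {j | j ≠ i}) ≤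
        Ideal.span (Set.range fun j => x j ^ (if j ∈ S then n + 1 else n)) := by
      refine Ideal.span_mono ?_
      rintro _ ⟨j, hj, rfl⟩
      exact ⟨j, by simp [e, show j ≠ i from hj]⟩
    rw [← sub_add_cancel (r * ∏ j ∈ S, x j) (c * x i ^ n)]
    refine add_mem (hle hmem) (Ideal.mul_mem_left _ _ (Ideal.subset_span ⟨i, ?_⟩))
    simp [hi]

include hd hx in
theorem mem_of_mul_t_pow_mem : ∀ (m n : ℕ) (r : R), r * t x ^ m ∈ J x (n + m) → r ∈ J x n := by
  intro m
  induction m with
  | zero => exact fun n r h => by simpa using h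
  | succ m ih =>
    intro n r h
    rcases Nat.eq_zero_or_pos n with rfl | hn
    · rcases Nat.eq_zero_or_pos d with hd0 | hd0
      · subst hd0
        simpa [J, t] using h
      · rw [show J x 0 = ⊤ from (Ideal.eq_top_iff_one _).2 (Ideal.subset_span ⟨⟨0, hd0⟩, pow_zero _⟩)]
        trivial
    · refine ih n r ?_
      refine mem_of_prod_mul_mem hd x hx (n := n + m) (by omega) Finset.univ _ ?_
      simpa [J, pow_succ, mul_assoc, add_assoc] using h

theorem mem_P_form {y : Localization.Away (t x)} (hy : y ∈ P x) :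
    ∃ M, ∀ N, M ≤ N → ∃ j ∈ J x N, y * algebraMap R (Localization.Away (t x)) (t x ^ N) = algebraMap R _ j := by
  classical
  induction hy using Submodule.span_induction with
  | mem y hy =>
    obtain ⟨i, m, rfl⟩ := hy
    refine ⟨m, fun N hN => ⟨x i ^ m * t x ^ (N - m), ?_, ?_⟩⟩
    · have ht : x i ^ N ∣ x i ^ m * t x ^ (N - m) := by
        conv_lhs => rw [← Nat.add_sub_cancel' hN, pow_add]
        exact mul_dvd_mul_left _ (pow_dvd_pow_of_dvd (Finset.dvd_prod_of_mem _ (Finset.mem_univ i)) _)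
      exact Ideal.mem_of_dvd _ ht (mem_J x i N)
    · conv_lhs => rw [show N = m + (N - m) by omega, pow_add, map_mul]
      rw [map_mul]
      linear_combination (algebraMap R (Localization.Away (t x)) (x i ^ m) *
        algebraMap R (Localization.Away (t x)) (t x ^ (N - m))) * mul_pow_invSelf x m
  | zero => exact ⟨0, fun N _ => ⟨0, zero_mem _, by simp⟩⟩
  | add a b _ _ ha hb =>
    obtain ⟨M, hM⟩ := ha
    obtain ⟨M', hM'⟩ := hb
    refine ⟨max M M', fun N hN => ?_⟩
    obtain ⟨j, hj, e⟩ := hM N (le_of_max_le_left hN)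
    obtain ⟨j', hj', e'⟩ := hM' N (le_of_max_le_right hN)
    exact ⟨j + j', add_mem hj hj', by rw [add_mul, e, e', map_add]⟩
  | smul r a _ ha =>
    obtain ⟨M, hM⟩ := ha
    refine ⟨M, fun N hN => ?_⟩
    obtain ⟨j, hj, e⟩ := hM N hN
    exact ⟨r * j, Ideal.mul_mem_left _ _ hj, by rw [Algebra.smul_def, mul_assoc, e, map_mul]⟩

include hd hx in
theorem π_eq_zero_iff (n : ℕ) (r : R) : π x n r = 0 ↔ r ∈ J x n := by
  classical
  constructor
  · intro h
    rw [π_apply, Submodule.Quotient.mk_eq_zero] at h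
    obtain ⟨M, hM⟩ := mem_P_form x h
    obtain ⟨j, hj, e⟩ := hM (n + M) (Nat.le_add_left M n)
    have e' : algebraMap R (Localization.Away (t x)) (r * t x ^ M) = algebraMap R _ j := by
      rw [← e, map_mul, pow_add, map_mul]
      linear_combination -(algebraMap R (Localization.Away (t x)) r *
        algebraMap R (Localization.Away (t x)) (t x ^ M)) * mul_pow_invSelf x n
    obtain ⟨⟨c, k, rfl⟩, hc⟩ := (IsLocalization.eq_iff_exists (Submonoid.powers (t x)) _).1 e'
    refine mem_of_mul_t_pow_mem hd x hx (M + k) n r ?_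
    have hc' : r * t x ^ (M + k) = t x ^ k * j := by rw [← hc]; ring
    rw [hc', ← add_assoc]
    have hle : ∀ z ∈ J x (n + M), t x ^ k * z ∈ J x (n + M + k) := by
      intro z hz
      induction hz using Submodule.span_induction with
      | mem z hz =>
        obtain ⟨i, rfl⟩ := hz
        refine Ideal.mem_of_dvd _ ?_ (mem_J x i (n + M + k))
        rw [pow_add _ _ k, mul_comm]
        exact mul_dvd_mul_right (pow_dvd_pow_of_dvd (Finset.dvd_prod_of_mem _ (Finset.mem_univ i)) _) _
      | zero => simp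
      | add a b _ _ ha hb => rw [mul_add]; exact add_mem ha hb
      | smul c a _ ha => rw [smul_eq_mul, mul_left_comm]; exact Ideal.mul_mem_left _ _ ha
    exact hle j hj
  · intro h
    show r • (Submodule.Quotient.mk _ : E x) = 0
    induction h using Submodule.span_induction with
    | mem z hz =>
      obtain ⟨i, rfl⟩ := hz
      rw [← Submodule.Quotient.mk_smul, Submodule.Quotient.mk_eq_zero, Algebra.smul_def]
      exact Submodule.subset_span ⟨i, n, rfl⟩
    | zero => exact zero_smul _ _
    | add a b _ _ ha hb => rw [add_smul, ha, hb, add_zero]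
    | smul c a _ ha => rw [smul_eq_mul, mul_smul, ha, smul_zero]

include hd hx in
theorem injective_quotient {n : ℕ} (hn : 1 ≤ n) : Module.Injective (R ⧸ J x n) (R ⧸ J x n) := by
  classical
  haveI := Ideal.Quotient.nontrivial_iff.2 (ne_top_of_le_ne_top (maximalIdeal.isMaximal R).ne_top (J_le_maximalIdeal x hx hn))
  let rs := List.ofFn fun i => x i ^ n
  have hJ : Ideal.ofList rs = J x n := by
    unfold Ideal.ofList J
    congr 1
    ext z
    simp [rs, List.mem_ofFn]
  have hm : ∀ r ∈ rs, r ∈ maximalIdeal R := by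
    intro r hr
    obtain ⟨i, rfl⟩ := List.mem_ofFn.1 hr
    exact Ideal.pow_mem_of_mem _ (mem_maximalIdeal x hx i) n hn
  have h0 : ringKrullDim (R ⧸ J x n) ≤ 0 := by
    refine (CanonModLib.dim_quotient_le_card (J x n) (J_le_maximalIdeal x hx hn) ∅ (by simp) ?_).trans (by simp)
    rw [← hx, Finset.coe_empty, Ideal.span_empty, sup_bot_eq, Ideal.radical_le_radical_iff, Ideal.span_le]
    exact fun _ ⟨j, hj⟩ => ⟨n, hj ▸ mem_J x j n⟩
  have hreg : RingTheory.Sequence.IsRegular R rs := by
    refine CommAlgDim.isRegular_of_dim_aux _ R rs rfl GorLib.isCM_of_gorenstein hm ?_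
    rw [hJ, hd, show rs.length = d from List.length_ofFn]
    exact (add_le_add h0 le_rfl).trans (zero_add _).le
  haveI hG : LocCoh.IsGorensteinLocalRing (R ⧸ J x n) := by
    have h := (GorLib.gorenstein_quotient_ofList_iff _ R rs rfl hreg.toIsWeaklyRegular hm).1 ‹_›
    rwa [hJ] at h
  exact GorLib.idlt_one_iff.1 (GorLib.idlt_of_dim_le (R := R ⧸ J x n) (d := 0) (by simpa using h0))

include hd hx in
/-- Baer's extension property for `R ⧸ J n`, read in `R`. -/
theorem exists_extend {n : ℕ} (hn : 1 ≤ n) (I : Ideal R) (φ : I → R)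
    (hadd : ∀ a b : I, φ (a + b) - (φ a + φ b) ∈ J x n) (hsmul : ∀ (c : R) (a : I), φ (c • a) - c * φ a ∈ J x n)
    (hker : ∀ a : I, (a : R) ∈ J x n → φ a ∈ J x n) :
    ∃ c : R, ∀ a : I, φ a - (a : R) * c ∈ J x n := by
  classical
  let q := Ideal.Quotient.mk (J x n)
  have hsurj : Function.Surjective q := Ideal.Quotient.mk_surjective
  have hmem : ∀ a : (I.map q : Ideal (R ⧸ J x n)), ∃ i : I, q i = a := fun a => by
    obtain ⟨i, hi, e⟩ := (Ideal.mem_map_iff_of_surjective q hsurj).1 a.2
    exact ⟨⟨i, hi⟩, e⟩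
  choose σ hσ using hmem
  have hsub : ∀ a b : I, q (φ (a + b)) = q (φ a) + q (φ b) := fun a b => by
    rw [← map_add]; exact Ideal.Quotient.eq.2 (hadd a b)
  have hwd : ∀ a b : I, q (a : R) = q (b : R) → q (φ a) = q (φ b) := by
    intro a b hab
    have h1 : q (φ (a - b)) = 0 :=
      Ideal.Quotient.eq_zero_iff_mem.2 (hker _ (Ideal.Quotient.eq.1 hab))
    have h2 := hsub (a - b) b
    rw [sub_add_cancel, h1, zero_add] at h2
    exact h2
  let g : (I.map q : Ideal (R ⧸ J x n)) →ₗ[R ⧸ J x n] (R ⧸ J x n) :=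
    { toFun := fun a => q (φ (σ a))
      map_add' := fun a b => by
        rw [← hsub]
        exact hwd _ _ (by simp only [Submodule.coe_add, hσ, map_add])
      map_smul' := fun c a => by
        obtain ⟨c, rfl⟩ := hsurj c
        rw [RingHom.id_apply, smul_eq_mul, ← map_mul, ← Ideal.Quotient.eq.2 (hsmul c (σ a))]
        exact hwd _ _ (by rw [hσ, Submodule.coe_smul, Submodule.coe_smul, smul_eq_mul, smul_eq_mul, map_mul, hσ]) }
  obtain ⟨g', hg'⟩ := Module.Baer.of_injective (injective_quotient hd x hx hn) _ g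
  obtain ⟨c, hc⟩ := hsurj (g' 1)
  refine ⟨c, fun a => Ideal.Quotient.eq.1 ?_⟩
  have ha : q (a : R) ∈ I.map q := Ideal.mem_map_of_mem q a.2
  have h1 := hg' (q a) ha
  have h2 : g' (q a) = q (a : R) * g' 1 := by rw [← smul_eq_mul, ← map_smul, smul_eq_mul, mul_one]
  rw [h2, ← hc, ← map_mul] at h1
  rw [h1]
  exact hwd _ _ (by rw [hσ])

include hd hx in
theorem injective_E : Module.Injective R (E x) := by
  classical
  refine Module.Baer.injective fun I g => ?_
  have hev : ∀ a : I, ∃ n, g a ∈ LinearMap.range (π x n) := fun a => by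
    obtain ⟨n, r, h⟩ := π_surj x (g a)
    exact ⟨n, r, h⟩
  obtain ⟨n₀, hn₀⟩ : ∃ n₀, ∀ a : I, g a ∈ LinearMap.range (π x n₀) := by
    obtain ⟨s, hs⟩ := (IsNoetherian.noetherian (⊤ : Submodule R I))
    choose N hN using hev
    refine ⟨s.sup N, fun a => ?_⟩
    have ha : a ∈ Submodule.span R (s : Set I) := hs ▸ Submodule.mem_top
    induction ha using Submodule.span_induction with
    | mem a ha => exact range_π_mono x (Finset.le_sup (Finset.mem_coe.1 ha)) (hN a)
    | zero => rw [map_zero]; exact zero_mem _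
    | add a b _ _ ha hb => rw [map_add]; exact add_mem ha hb
    | smul c a _ ha => rw [map_smul]; exact Submodule.smul_mem _ _ ha
  obtain ⟨k, hk⟩ := Ideal.exists_pow_inf_eq_pow_smul (Ideal.span (Set.range x)) (M := R) I
  obtain ⟨L, hL⟩ := exists_pow_le x hx n₀
  let N := k + L + n₀ + 1
  have hkill : ∀ a : I, (a : R) ∈ J x N → g a = 0 := by
    intro a ha
    have h1 : (a : R) ∈ Ideal.span (Set.range x) ^ N • (⊤ : Submodule R R) ⊓ I :=
      ⟨by rw [smul_eq_mul, Ideal.mul_top]; exact J_le_pow x N ha, a.2⟩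
    rw [hk N (by omega)] at h1
    have hle : Ideal.span (Set.range x) ^ (N - k) ≤ J x n₀ :=
      (Ideal.pow_le_pow_right (by omega : L ≤ N - k)).trans ((pow_le_pow_left' (by
        rw [← hx]; exact Ideal.le_radical) L).trans hL)
    have h2 : (a : R) ∈ J x n₀ • I := Submodule.smul_mono hle inf_le_right h1
    suffices ∀ z ∈ J x n₀ • I, ∃ hz : z ∈ I, g ⟨z, hz⟩ = 0 by
      obtain ⟨_, h⟩ := this _ h2
      exact h
    intro z hz
    refine Submodule.smul_induction_on hz (fun j hj b hb => ?_) (fun b c => ?_)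
    · refine ⟨Submodule.smul_mem I j hb, ?_⟩
      obtain ⟨r, hr⟩ := hn₀ ⟨b, hb⟩
      rw [show (⟨j • b, Submodule.smul_mem I j hb⟩ : I) = j • ⟨b, hb⟩ from rfl, map_smul, ← hr, ← map_smul,
        π_eq_zero_iff hd x hx, smul_eq_mul]
      exact Ideal.mul_mem_right _ _ hj
    · rintro ⟨hbI, hb⟩ ⟨hcI, hc⟩
      refine ⟨add_mem hbI hcI, ?_⟩
      rw [show (⟨b + c, add_mem hbI hcI⟩ : I) = ⟨b, hbI⟩ + ⟨c, hcI⟩ from rfl, map_add, hb, hc, add_zero]
  choose φ hφ using fun a => range_π_mono x (by omega : n₀ ≤ N) (hn₀ a)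
  have hz : ∀ u v : R, π x N u = π x N v → u - v ∈ J x N := fun u v h => by
    rw [← π_eq_zero_iff hd x hx, map_sub, h, sub_self]
  obtain ⟨c, hc⟩ := exists_extend hd x hx (n := N) (by omega) I φ
    (fun a b => hz _ _ (by rw [map_add, hφ, hφ, hφ, map_add]))
    (fun c a => hz _ _ (by rw [hφ, ← smul_eq_mul, map_smul, map_smul, hφ]))
    (fun a ha => by rw [← π_eq_zero_iff hd x hx, hφ]; exact hkill a ha)
  refine ⟨LinearMap.toSpanSingleton R (E x) (π x N c), fun z hz' => ?_⟩
  rw [LinearMap.toSpanSingleton_apply, ← map_smul, ← hφ ⟨z, hz'⟩, smul_eq_mul]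
  exact (sub_eq_zero.1 (by rw [← map_sub, π_eq_zero_iff hd x hx]; exact hc ⟨z, hz'⟩)).symm

theorem exists_socle_of_pow (n : ℕ) : ∀ (L : ℕ) (r : R), r ∉ J x n → (∀ b ∈ maximalIdeal R ^ L, b * r ∈ J x n) →
    ∃ b, b * r ∉ J x n ∧ ∀ m ∈ maximalIdeal R, m * (b * r) ∈ J x n := by
  intro L
  induction L with
  | zero =>
    intro r hr h
    exact absurd (by simpa using h 1 (by rw [pow_zero, Ideal.one_eq_top]; trivial)) hr
  | succ L ih =>
    intro r hr h
    by_cases h' : ∀ b ∈ maximalIdeal R ^ L, b * r ∈ J x n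
    · exact ih r hr h'
    push Not at h'
    obtain ⟨b, hb, hbr⟩ := h'
    refine ⟨b, hbr, fun m hm => ?_⟩
    rw [← mul_assoc]
    exact h _ (by rw [pow_succ']; exact Ideal.mul_mem_mul hm hb)

include hx in
/-- An element outside `J n` has a multiple outside `J n` killed by the maximal ideal. -/
theorem exists_socle (n : ℕ) (r : R) (hr : r ∉ J x n) :
    ∃ b, b * r ∉ J x n ∧ ∀ m ∈ maximalIdeal R, m * (b * r) ∈ J x n := by
  obtain ⟨L, hL⟩ := exists_pow_le x hx n
  exact exists_socle_of_pow x n L r hr fun b hb => Ideal.mul_mem_right _ _ (hL hb)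

include hd hx in
theorem exists_isInjectiveHull : ∃ f : ResidueField R →ₗ[R] E x, InjHull.IsInjectiveHull f := by
  classical
  obtain ⟨s, hs, hms⟩ := exists_socle x hx 1 1 fun h =>
    (maximalIdeal.isMaximal R).ne_top ((Ideal.eq_top_iff_one _).2 (J_le_maximalIdeal x hx le_rfl h))
  rw [mul_one] at hs hms
  have hk : maximalIdeal R ≤ LinearMap.ker (LinearMap.toSpanSingleton R (E x) (π x 1 s)) := fun m hm => by
    rw [LinearMap.mem_ker, LinearMap.toSpanSingleton_apply, ← map_smul, π_eq_zero_iff hd x hx, smul_eq_mul]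
    exact hms m hm
  let f : ResidueField R →ₗ[R] E x := Submodule.liftQ (maximalIdeal R) _ hk
  refine ⟨f, ⟨⟨?_, ?_⟩, injective_E hd x hx⟩⟩
  · rw [injective_iff_map_eq_zero]
    intro a ha
    obtain ⟨a, rfl⟩ := IsLocalRing.residue_surjective a
    have h' : π x 1 (a • s) = 0 := by rw [map_smul]; exact ha
    rw [π_eq_zero_iff hd x hx, smul_eq_mul] at h'
    rw [IsLocalRing.residue_eq_zero_iff]
    intro hu
    exact hs ((Ideal.unit_mul_mem_iff_mem _ hu).1 h')
  · intro N hN
    obtain ⟨z, hz, hz0⟩ := Submodule.exists_mem_ne_zero_of_ne_bot hN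
    obtain ⟨n, r, rfl⟩ := π_surj x z
    rw [← π_add x n 1 r] at hz hz0
    set m := n + 1
    set r' := r * t x ^ 1
    obtain ⟨b, hb, hmb⟩ := exists_socle x hx m r' (fun h => hz0 ((π_eq_zero_iff hd x hx m r').2 h))
    let u := b * r'
    let w := s * t x ^ n
    have hwπ : π x m w = π x 1 s := by rw [show m = 1 + n by omega]; exact π_add x 1 n s
    have hw : w ∉ J x m := fun h => hs (by
      rw [← π_eq_zero_iff hd x hx, ← hwπ, (π_eq_zero_iff hd x hx m w).2 h])
    have hann : ∀ e : R, e * w ∈ J x m → e ∈ maximalIdeal R := fun e he hu =>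
      hw ((Ideal.unit_mul_mem_iff_mem _ hu).1 he)
    have hsp : ∀ a : (Ideal.span {w} : Ideal R), ∃ e : R, e * w = a := fun a => Ideal.mem_span_singleton'.1 a.2
    choose e he using hsp
    have hu : ∀ e₁ e₂ : R, (e₁ - e₂) * w ∈ J x m → e₁ * u - e₂ * u ∈ J x m := fun e₁ e₂ h => by
      rw [← sub_mul]; exact hmb _ (hann _ h)
    obtain ⟨c, hc⟩ := exists_extend hd x hx (n := m) (by omega) (Ideal.span {w}) (fun a => e a * u)
      (fun a a' => by
        rw [← add_mul]
        refine hu _ _ ?_
        rw [sub_mul, add_mul, he, he, he, Submodule.coe_add, sub_self]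
        exact zero_mem _)
      (fun c a => by
        show e (c • a) * u - c * (e a * u) ∈ J x m
        rw [← mul_assoc c]
        refine hu _ _ ?_
        rw [sub_mul, mul_assoc, he, he, Submodule.coe_smul, smul_eq_mul, sub_self]
        exact zero_mem _)
      (fun a ha => hmb _ (hann _ (by rw [he]; exact ha)))
    have h1 := hc ⟨w, Ideal.mem_span_singleton_self w⟩
    have h2 : u - w * c ∈ J x m := by
      have h3 : (e ⟨w, Ideal.mem_span_singleton_self w⟩ - 1) * w ∈ J x m := by
        rw [sub_mul, he, one_mul, sub_self]; exact zero_mem _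
      have h4 := sub_mem h1 (hu _ _ h3)
      simpa using h4
    intro hbot
    have heq : π x m u = c • π x 1 s := by
      rw [← hwπ, ← map_smul, ← sub_eq_zero, ← map_sub, π_eq_zero_iff hd x hx, smul_eq_mul, mul_comm c w]
      exact h2
    have hmem : π x m u ∈ N ⊓ LinearMap.range f := by
      refine ⟨?_, ⟨IsLocalRing.residue R c, ?_⟩⟩
      · show π x m (b • r') ∈ N
        rw [map_smul]
        exact Submodule.smul_mem _ _ hz
      · rw [heq]; rfl
    rw [hbot, Submodule.mem_bot, π_eq_zero_iff hd x hx] at hmem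
    exact hb hmem

end

end GorCechLib
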